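import Groth.Agent.UnramA.SepDegPoints
import Mathlib.AlgebraicGeometry.Morphisms.Preimmersion

/-!
Separable residue degrees and composition with immersions (or any morphism which is bijective on
residue fields).
-/

set_option autoImplicit false
universe u

open AlgebraicGeometry CategoryTheory

namespace Groth.Agent.Ega43.H134.ResDegComp

open Groth.Agent.UnramA.SepDegPoints

lemma finSepDegree_eq_one_of_bijective (F E : Type*) [Field F] [Field E] [Algebra F E]
    (h : Function.Bijective (algebraMap F E)) : Field.finSepDegree F E = 1 := by
  rw [Field.finSepDegree_eq_of_equiv F E F (AlgEquiv.ofBijective (Algebra.ofId F E) h).symm,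
    Field.finSepDegree_self]

/-- Preimmersions are bijective on residue fields. -/
lemma residueFieldMap_bijective {Z X : Scheme.{u}} (i : Z ⟶ X) [IsPreimmersion i] (z : Z) :
    Function.Bijective (i.residueFieldMap z).hom := by
  refine ⟨(i.residueFieldMap z).hom.injective, ?_⟩
  have h1 : Function.Surjective (Z.residue z).hom := Z.residue_surjective z
  have h2 : Function.Surjective (i.stalkMap z).hom := i.stalkMap_surjective z
  have h3 : Function.Surjective ((X.residue (i z) ≫ i.residueFieldMap z).hom) := by
    rw [Scheme.residue_residueFieldMap]
    exact h1.comp h2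
  exact Function.Surjective.of_comp (g := (X.residue (i z)).hom) h3

lemma residueSepDegree_comp_left {Z X Y : Scheme.{u}} (i : Z ⟶ X) (f : X ⟶ Y) (z : Z)
    (h : Function.Bijective (i.residueFieldMap z).hom) :
    EGA4loc.residueSepDegree (i ≫ f) z = EGA4loc.residueSepDegree f (i z) := by
  let _ : Algebra (Y.residueField (f (i z))) (Z.residueField z) :=
    ((i ≫ f).residueFieldMap z).hom.toAlgebra
  let _ : Algebra (Y.residueField (f (i z))) (X.residueField (i z)) :=
    (f.residueFieldMap (i z)).hom.toAlgebra
  let e : X.residueField (i z) →ₐ[Y.residueField (f (i z))] Z.residueField z :=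
    { (i.residueFieldMap z).hom with
      commutes' := by
        intro a
        have := Scheme.residueFieldMap_comp i f z
        exact (congrArg (fun t => t.hom a) this).symm }
  exact (Field.finSepDegree_eq_of_equiv _ _ _ (AlgEquiv.ofBijective e h)).symm

lemma residueSepDegree_comp_right {Z X Y : Scheme.{u}} (g : Z ⟶ X) (j : X ⟶ Y) (z : Z)
    (h : Function.Bijective (j.residueFieldMap (g z)).hom) (halg : IsAlgAt g z) :
    EGA4loc.residueSepDegree (g ≫ j) z = EGA4loc.residueSepDegree g z := by
  let _ : Algebra (Y.residueField (j (g z))) (Z.residueField z) :=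
    ((g ≫ j).residueFieldMap z).hom.toAlgebra
  let _ : Algebra (Y.residueField (j (g z))) (X.residueField (g z)) :=
    (j.residueFieldMap (g z)).hom.toAlgebra
  let _ : Algebra (X.residueField (g z)) (Z.residueField z) :=
    (g.residueFieldMap z).hom.toAlgebra
  have _ : IsScalarTower (Y.residueField (j (g z))) (X.residueField (g z)) (Z.residueField z) := by
    refine IsScalarTower.of_algebraMap_eq' ?_
    have := Scheme.residueFieldMap_comp g j z
    exact congrArg (fun t => t.hom) this
  have _ : Algebra.IsAlgebraic (X.residueField (g z)) (Z.residueField z) := halg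
  have h1 := Field.finSepDegree_mul_finSepDegree_of_isAlgebraic (Y.residueField (j (g z)))
    (X.residueField (g z)) (Z.residueField z)
  rw [finSepDegree_eq_one_of_bijective (Y.residueField (j (g z))) (X.residueField (g z)) h,
    one_mul] at h1
  exact h1.symm

lemma residueSepDegree_pos {X Y : Scheme.{u}} (f : X ⟶ Y) (x : X) (h : IsFinAt f x) :
    0 < EGA4loc.residueSepDegree f x := by
  let _ := (f.residueFieldMap x).hom.toAlgebra
  have : Module.Finite (Y.residueField (f.base x)) (X.residueField x) := h
  exact Nat.pos_of_ne_zero (NeZero.ne (Field.finSepDegree (Y.residueField (f.base x)) (X.residueField x)))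

end Groth.Agent.Ega43.H134.ResDegComp
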